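import Cfsg.Agent.H883.C7.LIface

/-!
# The parameters of the elements of `M` commuting with a Siegel group are scalar (task 1910; S5684, S5708)
-/

set_option autoImplicit false
set_option linter.unusedSectionVars false

namespace Cfsg.Agent.H742.C7

open QuadraticMap hiding proj
open Cfsg.Agent.LieClassical.OrthCore Cfsg.Agent.LieClassical.OrthTrans
open Cfsg.Agent.H882.Ten Cfsg.Agent.LieClassical.OrthFinite Cfsg.Agent.H883.C7

variable {F : Type*} [Field F] {κ : Type*} [Fintype κ] [DecidableEq κ] {ι : Type*} [Fintype ι] [DecidableEq ι]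

theorem radW {q : QuadraticForm F (κ → F)} (h2 : (2 : F) ≠ 0) (hq : Nondeg q)
    {M : Subgroup (((ι → κ) → F) ≃ₗ[F] ((ι → κ) → F))} (hrad : RadP q M) (j : ι) {w : κ → F} (hw0 : w ≠ 0)
    (hw : q w = 0) : ∀ g ∈ M, ∀ τ, IsR (ten F κ j) q w g τ → ∃ (x : κ → F) (hx : polar q w x = 0),
      g = rW (tst (ι := ι) h2 hq j).ten (siegel q w x hw hx) := by
  intro g hg τ hτ
  obtain ⟨x, hx, h⟩ := hrad j w hw hw0 g hg τ hτ
  exact ⟨x, hx, by rw [h, slE_eq_rW]⟩

theorem sp_three [Finite F] {q : QuadraticForm F (κ → F)} (H : Hyp7 q) (hk : Fintype.card κ = 3)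
    (ht : 2 ≤ Fintype.card ι) {M : Subgroup (((ι → κ) → F) ≃ₗ[F] ((ι → κ) → F))} (hM : Over q M)
    (hrad : RadP q M) : SP q M := by
  intro j w hw0 hw c hc α r τ hcr hr z hz
  have S := tst (ι := ι) H.two H.nd j
  have hG := H.good ht
  obtain ⟨w', hyp⟩ := LieClassical.OrthTrans.exists_hyp H.nd hw hw0
  obtain ⟨z0, hz1, hz2, hz3⟩ := H882.Ten.exists_nonsing_perp H.nd
    (by rw [Module.finrank_fintype_fun_eq_card, hk]) hyp
  have hz4 : polar q z0 z0 ≠ 0 := by rw [polar_self']; exact mul_ne_zero H.two hz3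
  have hexp : z = polar q w' z • w + ((polar q z0 z0)⁻¹ * polar q z0 z) • z0 := by
    have := expand3 (by rw [Module.finrank_fintype_fun_eq_card, hk]) hyp hz1 hz2 hz4 z
    rw [hz, zero_smul, add_zero] at this
    exact this
  obtain ⟨c0, hc0, hc1⟩ := exists_sq_ne (H.five hk)
  obtain ⟨h, hcomm, hO, h1, h2, h3⟩ := exists_torus hyp hc0
  have hhM : rW S.ten h ∈ M := by
    have := hM.2 _ (slE_comm_mem_E H.two hG j hcomm) (slE_isMono _ _)
    rwa [slE_eq_rW] at this
  obtain ⟨a, ha⟩ := theta_scalar S hw hw0 (radW H.two H.nd hrad j hw0 hw) hc hcr hr hhM hO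
    (mul_ne_zero hc0 hc0) h1 z0 hz1
  have hinv : h⁻¹ z0 = z0 := by
    have h4 : h⁻¹ (h z0) = z0 := LinearEquiv.symm_apply_apply h z0
    rwa [h3 z0 hz1 hz2] at h4
  rw [hinv] at ha
  have hne : 1 - c0 * c0 ≠ 0 := fun h => hc1 (by linear_combination -h)
  have hτ : ∀ u, τ z0 u = ((1 - c0 * c0)⁻¹ * a) • u := by
    intro u
    have h5 : (1 - c0 * c0) • τ z0 u = a • u := by
      rw [← ha u]
      module
    rw [← smul_smul, ← h5, smul_smul, inv_mul_cancel₀ hne, one_smul]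
  refine ⟨(polar q z0 z0)⁻¹ * polar q z0 z * ((1 - c0 * c0)⁻¹ * a), fun u => ?_⟩
  conv_lhs => rw [hexp]
  rw [map_add, map_smul, map_smul, LinearMap.add_apply, LinearMap.smul_apply, S.tau_self hw hw0 hr,
    LinearMap.smul_apply, hτ]
  module

/-- A nonsingular vector orthogonal to a hyperbolic plane `⟨y0, y0'⟩` and to `w ⊥ y0, y0'`. -/
theorem exists_z1 {q : QuadraticForm F (κ → F)} (hq : Nondeg q) (hd : 5 ≤ Fintype.card κ) {w : κ → F}
    (hw : q w = 0) (hw0 : w ≠ 0) {y0 : κ → F} (hy0 : q y0 = 0) (hwy0 : polar q w y0 = 0)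
    (hmul : ∀ c : F, y0 ≠ c • w) : ∃ z1, polar q y0 z1 = 0 ∧ polar q w z1 = 0 ∧ q z1 ≠ 0 := by
  obtain ⟨y, hy1, hy2⟩ := exists_sep hq hmul
  have hyp0 : Hyp q y0 (y + (-q y) • y0) := by
    refine ⟨hy0, ?_, ?_⟩
    · rw [Q_add, QuadraticMap.map_smul, hy0, polar_smul_right, polar_comm q y y0, hy2]
      simp
    · rw [polar_add_right, polar_smul_right, polar_self_of_sing hy0, hy2]
      simp
  set y0' := y + (-q y) • y0 with hy0'
  have hwy0' : polar q w y0' = 0 := by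
    rw [hy0', polar_add_right, polar_smul_right, hy1, hwy0]; simp
  obtain ⟨w'', hyp1, hw1, hw2⟩ := exists_hyp_perp hq hyp0 hw hw0 (by rw [polar_comm]; exact hwy0)
    (by rw [polar_comm]; exact hwy0')
  obtain ⟨a, c, ⟨a1, a2, a3, -⟩, ⟨c1, c2, c3, -⟩, hac⟩ := exists_perp4 hq
    (by rw [Module.finrank_fintype_fun_eq_card]; exact hd) hyp0 hyp1
    (by rw [polar_comm]; exact hwy0) hw1 (by rw [polar_comm]; exact hwy0') hw2
  rcases exists_nonsing hac with h | h | h
  · exact ⟨a, a1, a3, h⟩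
  · exact ⟨c, c1, c3, h⟩
  · exact ⟨a + c, by rw [polar_add_right, a1, c1, add_zero], by rw [polar_add_right, a3, c3, add_zero], h⟩

theorem sp_five [Finite F] {q : QuadraticForm F (κ → F)} (H : Hyp7 q) (hk : 5 ≤ Fintype.card κ)
    (ht : 2 ≤ Fintype.card ι) {M : Subgroup (((ι → κ) → F) ≃ₗ[F] ((ι → κ) → F))} (hM : Over q M)
    (hrad : RadP q M) : SP q M := by
  intro j w hw0 hw c hc α r τ hcr hr z hz
  have S := tst (ι := ι) H.two H.nd j
  have hG := H.good ht
  have hGq : Good q := LieClassical.OrthFinite.good_of_finite H.nd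
    (by rw [Module.finrank_fintype_fun_eq_card]; exact hk)
  obtain ⟨w', hyp⟩ := LieClassical.OrthTrans.exists_hyp H.nd hw hw0
  -- singular vectors
  have hsing : ∀ y0, q y0 = 0 → polar q w y0 = 0 → ∃ c : F, ∀ u, τ y0 u = c • u := by
    intro y0 hy0 hwy0
    by_cases hmul : ∃ c : F, y0 = c • w
    · obtain ⟨c, rfl⟩ := hmul
      refine ⟨0, fun u => ?_⟩
      rw [map_smul, LinearMap.smul_apply, S.tau_self hw hw0 hr]
      simp
    push Not at hmul
    obtain ⟨z1, hz1, hz3, hz4⟩ := exists_z1 H.nd hk hw hw0 hy0 hwy0 hmul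
    have hy0w : polar q y0 w = 0 := by rw [polar_comm]; exact hwy0
    have hz1w : polar q z1 w = 0 := by rw [polar_comm]; exact hz3
    have hhM : rW S.ten (siegel q y0 z1 hy0 hz1) ∈ M := by
      have := hM.siegel_mem H.two hG j hy0 hz1
      rwa [slE_eq_rW] at this
    have hhw : siegel q y0 z1 hy0 hz1 w = (1 : F) • w := by
      rw [siegel_apply, hy0w, hz1w]; simp
    obtain ⟨a, ha⟩ := theta_scalar S hw hw0 (radW H.two H.nd hrad j hw0 hw) hc hcr hr hhM
      (siegel_mem_O hy0 hz1) one_ne_zero hhw z1 hz3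
    have hinv : (siegel q y0 z1 hy0 hz1)⁻¹ z1 = z1 + (2 * q z1) • y0 := by
      rw [siegel_inv_apply hy0 hz1, hz1, polar_self' z1]
      module
    rw [hinv] at ha
    have hn : (-(2 * q z1)) ≠ 0 := neg_ne_zero.2 (mul_ne_zero H.two hz4)
    refine ⟨(-(2 * q z1))⁻¹ * a, fun u => ?_⟩
    have h5 : (-(2 * q z1)) • τ y0 u = a • u := by
      rw [← ha u, map_add, map_smul, LinearMap.add_apply, LinearMap.smul_apply]
      module
    rw [← smul_smul, ← h5, smul_smul, inv_mul_cancel₀ hn, one_smul]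
  obtain ⟨z0, z0', hyp2, q1, q2, q3, q4⟩ := hGq.exists_hyp2 hyp
  have hperp : ∀ v, polar q w v = 0 → polar q w' v = 0 → ∃ c : F, ∀ u, τ v u = c • u := by
    intro v
    refine sing_induction_perp hyp2 q1 q2 q3 q4 (P := fun v => ∃ c : F, ∀ u, τ v u = c • u) ?_ ?_ v
    · rintro a c _ _ _ _ ⟨c1, h1⟩ ⟨c2, h2⟩
      refine ⟨c1 + c2, fun u => ?_⟩
      rw [map_add, LinearMap.add_apply, h1, h2, add_smul]
    · intro a ha ha1 _
      exact hsing a ha ha1
  have e : z = LieClassical.OrthTrans.proj q w w' z + polar q w' z • w := by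
    rw [LieClassical.OrthTrans.proj, hz]; module
  obtain ⟨c, hc⟩ := hperp _ (polar_proj_left hyp z) (polar_proj_right hyp z)
  refine ⟨c, fun u => ?_⟩
  rw [e, map_add, map_smul, LinearMap.add_apply, LinearMap.smul_apply, hc, S.tau_self hw hw0 hr]
  simp

end Cfsg.Agent.H742.C7
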